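import Cfsg.Agent.H58.Mon.FiveB_m3
import Cfsg.Agent.CoThreeStd.MTwelveCent
import Cfsg.Agent.H547.PP.FarBaby
import Cfsg.Agent.H58.Rec.KillTwo
import Cfsg.Agent.Lib.FastPerm
import Cfsg.Agent.FastGrp
import Cfsg.Agent.Prune
set_option linter.all false

section
prune_inst 0x7ffefffbeff8bfffffff7e7ffffddffffffdffffeffff9fbfffdfbffbfff6b6feff5fbafefefdafebff7f23c92f87bf3fffffeffe3fffd7ffffdfff47fffffdfffffbf2f7ddebcbe1ffe6ffffbffffaf7f3fffffffffffffffffffffffffffffffffffffffff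

-- part: H455/RecBEleven
section
set_option linter.all false
open scoped Cfsg.Agent.FastGrp

/-!
# S3484, the Baby Monster: elements of order 11 (helper455)

* `exists_F` : `u` of order 11 of the Monster, `τ` an involution of class 2A commuting with `u`:
  `C(u) → M12` with kernel `⟨u⟩`, `τ` is mapped to the involution `y` with centralizer `2 × S5`;
* `Cov` : the double cover of the Baby Monster;
* `comm_eleven` : elements commuting with an element of order 11 of the Baby Monster;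
* `frob_cent` : the centralizer of an element of order 11 contains a Frobenius group of order 20.
-/

set_option autoImplicit false
set_option maxRecDepth 100000

namespace Cfsg.Agent.H455.RecB

open Cfsg Subgroup Cfsg.Agent.H58.Rec
open Cfsg.Agent.MonsterX Cfsg.Agent.MonsterX.MainBasic Cfsg.Agent.MonsterU
open Cfsg.Agent.BpSpor.MBigModel (MG zz chart card_M card_cent_z card_cent_t orderOf_zz zz_sq)
open Cfsg.Agent.LThreeMB (XX Zx tt)
open Cfsg.Agent.CoThreeStd.MTwelve (inv_class card_cent_v card_cent_y cent_y w w_injective y_ne_w y_comm y_sq)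
open Cfsg.Agent.H393.Iso (exists_lift lift_comm)

theorem finMG : Finite MG := BpSpor.MBigModel.finite

theorem prime11 : Nat.Prime 11 := by norm_num

theorem card_cent_conj {G : Type*} [Group G] (g x : G) :
    Nat.card ↥(centralizer ({g⁻¹ * x * g} : Set G)) = Nat.card ↥(centralizer ({x} : Set G)) := by
  exact BpSpor.card_cent_of_conj (c := g⁻¹) (by rw [inv_inv])

/-- one element of order 11 -/
theorem exists_base : ∃ (x : MG) (hz : zz ∈ centralizer ({x} : Set MG)) (F : ↥(centralizer ({x} : Set MG)) →* Spor.M12),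
    orderOf x = 11 ∧ Function.Surjective F ∧ (∀ g, F g = 1 ↔ (g : MG) ∈ zpowers x) ∧
    Nat.card (centralizer ({F ⟨zz, hz⟩} : Set Spor.M12)) = 192 := by
  have hfin := finMG
  have hsim := BpSpor.MBigModel.simple
  obtain ⟨x₀, hx₀, hpx⟩ := H800.ME.Final.exists_x
  have hxo : orderOf (x₀ : MG) = 11 := by rw [Subgroup.orderOf_coe, hx₀]
  obtain ⟨e⟩ := H800.ME.Twelve.iso chart hx₀ hpx (H800.ME.Final.dvd_XX hxo)
  obtain ⟨c, H⟩ := H800.ME.Twelve.hyp chart hx₀ hpx
  have hz : zz ∈ centralizer ({(x₀ : MG)} : Set MG) :=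
    mem_centralizer_singleton_iff.2 (mem_centralizer_singleton_iff.1 x₀.2).symm
  refine ⟨x₀, hz, e.toMonoidHom.comp (QuotientGroup.mk' (Zx (x₀ : MG))), hxo,
    e.surjective.comp (QuotientGroup.mk'_surjective _), ?_, ?_⟩
  · intro g
    show e (QuotientGroup.mk g) = 1 ↔ _
    rw [map_eq_one_iff e e.injective, QuotientGroup.eq_one_iff, Zx, mem_zpowers_iff, mem_zpowers_iff]
    constructor
    · rintro ⟨i, hi⟩
      exact ⟨i, congrArg Subtype.val hi⟩
    · rintro ⟨i, hi⟩
      exact ⟨i, Subtype.ext hi⟩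
  · rw [← H.cc]
    refine (Nat.card_congr (e.toEquiv.subtypeEquiv fun g => ?_)).symm
    rw [mem_centralizer_singleton_iff, mem_centralizer_singleton_iff]
    show g * tt x₀ = tt x₀ * g ↔ e g * e (tt x₀) = e (tt x₀) * e g
    rw [← map_mul, ← map_mul, e.injective.eq_iff]

/-- **`C(u) → M12`.** -/
theorem exists_F {u τ : MG} (hu : orderOf u = 11) (hτ : orderOf τ = 2) (hc : u * τ = τ * u) (hn : ¬ IsConj zz τ) :
    ∃ F : ↥(centralizer ({u} : Set MG)) →* Spor.M12, Function.Surjective F ∧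
      (∀ g, F g = 1 ↔ (g : MG) ∈ zpowers u) ∧
      ∀ hm : τ ∈ centralizer ({u} : Set MG), F ⟨τ, hm⟩ = CoThreeStd.MTwelve.y := by
  have hfin := finMG
  have hf11 : Fact (Nat.Prime 11) := ⟨prime11⟩
  obtain ⟨x, hz, F, hx, hF, hk, h192⟩ := exists_base
  -- conjugate `⟨u⟩` into `⟨x⟩`
  obtain ⟨c, hcu⟩ : ∃ c : MG, c * u * c⁻¹ ∈ zpowers x := by
    obtain ⟨g, hg⟩ := BpSpor.MBigEleven.comm_z hu hτ hc
    have h1 : (g⁻¹ * u * g) * zz = zz * (g⁻¹ * u * g) := by
      calc (g⁻¹ * u * g) * zz = g⁻¹ * (u * (g * zz * g⁻¹)) * g := by group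
        _ = g⁻¹ * ((g * zz * g⁻¹) * u) * g := by rw [hg]
        _ = zz * (g⁻¹ * u * g) := by group
    have h2 : orderOf (g⁻¹ * u * g) = 11 := by
      rw [← hu]
      have := MulEquiv.orderOf_eq (MulAut.conj g⁻¹) u
      rw [MulAut.conj_apply, inv_inv] at this
      exact this
    obtain ⟨k, hk⟩ := CpAutON.Gen.conj_into (p := 11) (BpSpor.MBigModel.not_sq (Or.inl rfl) orderOf_zz)
      (x := (⟨g⁻¹ * u * g, mem_centralizer_singleton_iff.2 h1⟩ : ↥(centralizer ({zz} : Set MG))))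
      (by rw [Subgroup.orderOf_mk]; exact h2)
      (y := (⟨x, mem_centralizer_singleton_iff.2 (mem_centralizer_singleton_iff.1 hz).symm⟩ :
        ↥(centralizer ({zz} : Set MG)))) (by rw [Subgroup.orderOf_mk]; exact hx)
    obtain ⟨i, hi⟩ := mem_zpowers_iff.1 hk
    refine ⟨(k : MG) * g⁻¹, mem_zpowers_iff.2 ⟨i, ?_⟩⟩
    have h3 := congrArg Subtype.val hi
    have h4 : (x : MG) ^ i = (k : MG) * (g⁻¹ * u * g) * (k : MG)⁻¹ := h3
    rw [h4]
    group
  have hcuo : orderOf (c * u * c⁻¹) = 11 := by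
    rw [← hu]
    exact MulEquiv.orderOf_eq (MulAut.conj c) u
  have hzp : zpowers (c * u * c⁻¹) = zpowers x := by
    apply eq_of_le_of_card_ge
    · rw [zpowers_le]; exact hcu
    · rw [Nat.card_zpowers, Nat.card_zpowers, hx, hcuo]
  have hxm : x ∈ zpowers (c * u * c⁻¹) := by rw [hzp]; exact mem_zpowers x
  -- the conjugation
  have hcx : ∀ g : MG, g * u = u * g → (c * g * c⁻¹) * x = x * (c * g * c⁻¹) := by
    intro g hg
    obtain ⟨j, hj⟩ := mem_zpowers_iff.1 hxm
    have h1 : Commute (c * g * c⁻¹) (c * u * c⁻¹) := by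
      show c * g * c⁻¹ * (c * u * c⁻¹) = c * u * c⁻¹ * (c * g * c⁻¹)
      calc c * g * c⁻¹ * (c * u * c⁻¹) = c * (g * u) * c⁻¹ := by group
        _ = c * (u * g) * c⁻¹ := by rw [hg]
        _ = _ := by group
    rw [← hj]
    exact (h1.zpow_right j).eq
  have hcx' : ∀ g : MG, g * x = x * g → (c⁻¹ * g * c) * u = u * (c⁻¹ * g * c) := by
    intro g hg
    obtain ⟨j, hj⟩ := mem_zpowers_iff.1 hcu
    have h1 : Commute g (c * u * c⁻¹) := by
      rw [← hj]
      exact (show Commute g x from hg).zpow_right j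
    calc c⁻¹ * g * c * u = c⁻¹ * (g * (c * u * c⁻¹)) * c := by group
      _ = c⁻¹ * ((c * u * c⁻¹) * g) * c := by rw [h1.eq]
      _ = _ := by group
  let κ : ↥(centralizer ({u} : Set MG)) →* ↥(centralizer ({x} : Set MG)) :=
    ((MulAut.conj c).toMonoidHom.comp (centralizer ({u} : Set MG)).subtype).codRestrict _ (fun g =>
      mem_centralizer_singleton_iff.2 (hcx g (mem_centralizer_singleton_iff.1 g.2)))
  have hκ : ∀ g, ((κ g : ↥(centralizer ({x} : Set MG))) : MG) = c * g * c⁻¹ := fun g => rfl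
  have hκs : Function.Surjective κ := by
    rintro ⟨g, hg⟩
    refine ⟨⟨c⁻¹ * g * c, mem_centralizer_singleton_iff.2 (hcx' g (mem_centralizer_singleton_iff.1 hg))⟩,
      Subtype.ext ?_⟩
    rw [hκ]
    group
  have hτm : τ ∈ centralizer ({u} : Set MG) := mem_centralizer_singleton_iff.2 hc.symm
  have hττ : τ * τ = 1 := by rw [← pow_two, ← hτ, pow_orderOf_eq_one]
  -- the image of `τ`
  set t := F (κ ⟨τ, hτm⟩) with ht
  have hk' : ∀ g, F (κ g) = 1 ↔ (g : MG) ∈ zpowers u := by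
    intro g
    rw [hk, hκ, ← hzp]
    constructor
    · rintro ⟨i, hi⟩
      refine ⟨i, ?_⟩
      have h1 : (c * u * c⁻¹) ^ i = c * g * c⁻¹ := hi
      rw [conj_zpow] at h1
      exact mul_left_cancel (mul_right_cancel h1)
    · rintro ⟨i, hi⟩
      refine ⟨i, ?_⟩
      show (c * u * c⁻¹) ^ i = c * g * c⁻¹
      have h1 : u ^ i = g := hi
      rw [conj_zpow, h1]
  have hnot : ∀ v : MG, orderOf v = 2 → v ∉ zpowers u := by
    intro v hv hm
    have h1 := orderOf_dvd_natCard (⟨v, hm⟩ : zpowers u)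
    rw [Nat.card_zpowers, hu, Subgroup.orderOf_mk, hv] at h1
    norm_num at h1
  have ht1 : t ≠ 1 := by
    intro h1
    exact hnot τ hτ ((hk' ⟨τ, hτm⟩).1 h1)
  have htt : t * t = 1 := by
    rw [ht, ← map_mul, ← map_mul]
    have : (⟨τ, hτm⟩ : ↥(centralizer ({u} : Set MG))) * ⟨τ, hτm⟩ = 1 := Subtype.ext hττ
    rw [this, map_one, map_one]
  rcases inv_class t ht1 htt with ⟨m, hm⟩ | ⟨m, hm⟩
  · refine ⟨(MulAut.conj m).toMonoidHom.comp (F.comp κ), ?_, ?_, ?_⟩
    · exact (MulAut.conj m).surjective.comp (hF.comp hκs)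
    · intro g
      show MulAut.conj m (F (κ g)) = 1 ↔ _
      rw [map_eq_one_iff _ (MulAut.conj m).injective]
      exact hk' g
    · intro hm'
      show m * t * m⁻¹ = _
      rw [← hm]
      group
  · -- the other class
    exfalso
    set s := F ⟨zz, hz⟩ with hs
    have hs1 : s ≠ 1 := by
      intro h1
      have h2 := (hk _).1 h1
      have h3 := orderOf_dvd_natCard (⟨zz, h2⟩ : zpowers x)
      rw [Nat.card_zpowers, hx, Subgroup.orderOf_mk, orderOf_zz] at h3
      norm_num at h3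
    have hss : s * s = 1 := by
      rw [hs, ← map_mul]
      have : (⟨zz, hz⟩ : ↥(centralizer ({x} : Set MG))) * ⟨zz, hz⟩ = 1 := Subtype.ext zz_sq
      rw [this, map_one]
    obtain ⟨n, hn'⟩ : ∃ n, n⁻¹ * (CoThreeStd.MTwelve.p * CoThreeStd.MTwelve.r) * n = s := by
      rcases inv_class s hs1 hss with ⟨n, hn'⟩ | h
      · exfalso
        rw [← hn'] at h192
        have h2 : Nat.card ↥(centralizer ({n⁻¹ * CoThreeStd.MTwelve.y * n} : Set Spor.M12)) =
            Nat.card ↥(centralizer ({CoThreeStd.MTwelve.y} : Set Spor.M12)) := card_cent_conj n _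
        rw [h2, card_cent_y] at h192
        norm_num at h192
      · exact h
    -- `t` and `s` are conjugate
    obtain ⟨d, hd⟩ := hF (m⁻¹ * n)
    have h3 : F (d * ⟨zz, hz⟩ * d⁻¹) = F (κ ⟨τ, hτm⟩) := by
      rw [map_mul, map_mul, map_inv, hd, ← hs, ← ht, ← hn', ← hm]
      group
    have h4 : F ((κ ⟨τ, hτm⟩)⁻¹ * (d * ⟨zz, hz⟩ * d⁻¹)) = 1 := by
      rw [map_mul, map_inv, h3, inv_mul_cancel]
    obtain ⟨i, hi⟩ := mem_zpowers_iff.1 ((hk _).1 h4)
    have h5 : x ^ i = (c * τ * c⁻¹)⁻¹ * (d * zz * (d : MG)⁻¹) := hi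
    have h6 : (d : MG) * zz * (d : MG)⁻¹ = c * τ * c⁻¹ * x ^ i := by rw [h5]; group
    have hci : Commute (c * τ * c⁻¹) (x ^ i) := (show Commute (c * τ * c⁻¹) x from hcx τ hc.symm).zpow_right i
    have h7 : (x ^ i) ^ 2 = 1 := by
      have h8 : (d * zz * (d : MG)⁻¹) ^ 2 = 1 := by
        rw [conj_pow, pow_two zz, zz_sq, mul_one, mul_inv_cancel]
      rw [h6, hci.mul_pow, conj_pow, pow_two τ, hττ, mul_one, mul_inv_cancel, one_mul] at h8
      exact h8
    have h8 : (x ^ i) ^ 11 = 1 := by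
      rw [← zpow_natCast, ← zpow_mul, mul_comm, zpow_mul, zpow_natCast, ← hx, pow_orderOf_eq_one, one_zpow]
    have h9 : x ^ i = 1 := by
      have h10 := Nat.dvd_gcd (orderOf_dvd_of_pow_eq_one h7) (orderOf_dvd_of_pow_eq_one h8)
      exact orderOf_eq_one_iff.1 (Nat.dvd_one.1 (h10.trans (by norm_num)))
    rw [h9, mul_one] at h6
    apply hn
    refine isConj_iff.2 ⟨c⁻¹ * d, ?_⟩
    calc c⁻¹ * d * zz * (c⁻¹ * d)⁻¹ = c⁻¹ * (d * zz * (d : MG)⁻¹) * c := by group
      _ = c⁻¹ * (c * τ * c⁻¹) * c := by rw [h6]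
      _ = τ := by group

/-- the double cover -/
structure Cov (τ : MG) (q : ↥(centralizer ({τ} : Set MG)) →* Spor.BabyMonster) : Prop where
  ord : orderOf τ = 2
  ext : Cfsg.Agent.R01.Lifts.Ext q ⟨τ, mem_centralizer_singleton_iff.2 rfl⟩
  nc : ¬ IsConj zz τ

theorem exists_cov : ∃ (τ : MG) (q : ↥(centralizer ({τ} : Set MG)) →* Spor.BabyMonster), Cov τ q := by
  refine CTwoTab.BInst.elim ?_
  intro K _ _ hK hF _ _ _ _ q y h π f₁ f₂ f₃ f₄ M₁' hq h10 DK Fc hz hcz hcd hL hc5 big hq5 hcard Bs' hr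
  refine ⟨KDone.K.ι KLinkInst.x₀, q, ?_, hq, ?_⟩
  · have h1 := hq.zz
    have h2 := hq.zne
    have : Fact (Nat.Prime 2) := ⟨Nat.prime_two⟩
    refine orderOf_eq_prime ?_ ?_
    · rw [pow_two]
      exact congrArg Subtype.val h1
    · intro h3
      exact h2 (Subtype.ext h3)
  · intro hcj
    obtain ⟨g, hg⟩ := isConj_iff.1 hcj
    have h1 := BpSpor.card_cent_of_conj hg
    rw [card_cent_z, card_cent_t (LThreeB.Par.ta_iota MonsterN.LitFin.all KDone.lnk KDone.lft)] at h1
    norm_num at h1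

/-- the data of an element of order 11 of the Baby Monster -/
theorem exists_data {x : Spor.BabyMonster} (hx : orderOf x = 11) :
    ∃ (τ : MG) (q : ↥(centralizer ({τ} : Set MG)) →* Spor.BabyMonster) (b : ↥(centralizer ({τ} : Set MG)))
      (F : ↥(centralizer ({(b : MG)} : Set MG)) →* Spor.M12), Cov τ q ∧ q b = x ∧ orderOf b = 11 ∧
      Function.Surjective F ∧ (∀ g, F g = 1 ↔ (g : MG) ∈ zpowers (b : MG)) ∧
      ∀ hm : τ ∈ centralizer ({(b : MG)} : Set MG), F ⟨τ, hm⟩ = CoThreeStd.MTwelve.y := by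
  obtain ⟨τ, q, hC⟩ := exists_cov
  obtain ⟨b, hb, hb11⟩ := exists_lift hC.ext prime11 (by norm_num) hx
  have h1 : (b : MG) * τ = τ * b := mem_centralizer_singleton_iff.1 b.2
  obtain ⟨F, h2, h3, h4⟩ := exists_F (u := (b : MG)) (by rw [Subgroup.orderOf_coe, hb11]) hC.ord h1 hC.nc
  exact ⟨τ, q, b, F, hC, hb, hb11, h2, h3, h4⟩

theorem perm_five : ∀ σ : Equiv.Perm (Fin 5), ∃ k ∈ [1, 2, 3, 4, 5, 6], σ ^ k = 1 := by (set_option synthInstance.maxSize 9000 in open scoped Cfsg.Agent.Lib.FastPerm in decide +kernel)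

/-- **Elements commuting with an element of order 11.** -/
theorem comm_eleven {x v : Spor.BabyMonster} (hx : orderOf x = 11) (hv : x * v = v * x) :
    ∃ k, 0 < k ∧ k ≤ 6 ∧ v ^ k ∈ zpowers x := by
  obtain ⟨τ, q, b, F, hC, rfl, hb, hF, hk, hy⟩ := exists_data hx
  obtain ⟨a, rfl⟩ := hC.ext.surj v
  have hba : b * a = a * b := lift_comm hC.ext prime11 (by norm_num) hb hv
  have ham : (a : MG) ∈ centralizer ({(b : MG)} : Set MG) :=
    mem_centralizer_singleton_iff.2 (congrArg Subtype.val hba).symm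
  have haτ : (a : MG) * τ = τ * a := mem_centralizer_singleton_iff.1 a.2
  have hτm : τ ∈ centralizer ({(b : MG)} : Set MG) :=
    mem_centralizer_singleton_iff.2 (mem_centralizer_singleton_iff.1 b.2).symm
  set A : ↥(centralizer ({(b : MG)} : Set MG)) := ⟨a, ham⟩ with hA
  set T : ↥(centralizer ({(b : MG)} : Set MG)) := ⟨τ, hτm⟩ with hT
  have hAT : A * T = T * A := Subtype.ext haτ
  have h1 : F A * CoThreeStd.MTwelve.y = CoThreeStd.MTwelve.y * F A := by
    rw [← hy hτm, ← map_mul, ← map_mul, hAT]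
  obtain ⟨σ, hσ⟩ := cent_y _ h1
  obtain ⟨k, hk6, hkσ⟩ := perm_five σ
  have hk0 : 0 < k ∧ k ≤ 6 := by
    revert hk6
    simp only [List.mem_cons, List.not_mem_nil, or_false]
    omega
  refine ⟨k, hk0.1, hk0.2, ?_⟩
  have hwk : w σ ^ k = 1 := by rw [← map_pow, hkσ, map_one]
  -- `F A ^ k` is `1` or `y`
  have h2 : F (A ^ k) = 1 ∨ F (A ^ k * T) = 1 := by
    rw [map_mul, map_pow, hy hτm]
    rcases hσ with h | h
    · left
      rw [h, hwk]
    · have hyw : Commute CoThreeStd.MTwelve.y (w σ) := y_comm σ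
      rcases Nat.even_or_odd k with ⟨j, hj⟩ | ⟨j, hj⟩
      · left
        rw [h, hyw.mul_pow, hwk, mul_one, hj, ← two_mul, pow_mul, pow_two, y_sq, one_pow]
      · right
        rw [h, hyw.mul_pow, hwk, mul_one, hj, pow_succ, pow_mul, pow_two, y_sq, one_pow, one_mul, y_sq]
  rcases h2 with h2 | h2
  · obtain ⟨i, hi⟩ := mem_zpowers_iff.1 ((hk _).1 h2)
    have h3 : b ^ i = a ^ k := Subtype.ext (by
      show (b : MG) ^ i = (a : MG) ^ k
      exact hi)
    refine mem_zpowers_iff.2 ⟨i, ?_⟩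
    rw [← map_zpow, h3, map_pow]
  · obtain ⟨i, hi⟩ := mem_zpowers_iff.1 ((hk _).1 h2)
    have h3 : b ^ i = a ^ k * ⟨τ, mem_centralizer_singleton_iff.2 rfl⟩ := Subtype.ext (by
      show (b : MG) ^ i = (a : MG) ^ k * τ
      exact hi)
    refine mem_zpowers_iff.2 ⟨i, ?_⟩
    rw [← map_zpow, h3, map_mul, map_pow, hC.ext.mapz, mul_one]

theorem hasFrob_five : HasFrob (Equiv.Perm (Fin 5)) 5 4 := by
  have h5 : (finRotate 5 : Equiv.Perm (Fin 5)) ^ 5 = 1 := by decide
  have hr1 : (finRotate 5 : Equiv.Perm (Fin 5)) ≠ 1 := by decide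
  have hro : orderOf (finRotate 5 : Equiv.Perm (Fin 5)) = 5 := by
    have : Fact (Nat.Prime 5) := ⟨by norm_num⟩
    exact orderOf_eq_prime h5 hr1
  let c : Equiv.Perm (Fin 5) := c[1, 2, 4, 3]
  have hc4 : c ^ 4 = 1 := by decide
  have hc2 : c ^ 2 ≠ 1 := by decide
  have hmem : ∀ a ∈ zpowers (finRotate 5 : Equiv.Perm (Fin 5)), ∃ i < 5, a = finRotate 5 ^ i := by
    intro a ha
    obtain ⟨k, hk⟩ := (mem_powers_iff_mem_zpowers.2 ha)
    refine ⟨k % 5, Nat.mod_lt _ (by norm_num), ?_⟩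
    have : finRotate 5 ^ k = a := hk
    have h2 := pow_mod_orderOf (finRotate 5 : Equiv.Perm (Fin 5)) k
    rw [hro] at h2
    rw [← this, h2]
  refine ⟨zpowers (finRotate 5), c, ?_, ?_, ?_, ?_, ?_⟩
  · exact IsPGroup.of_card (n := 1) (by rw [Nat.card_zpowers, hro, pow_one])
  · intro h
    exact hr1 (zpowers_eq_bot.1 h)
  · rw [mem_normalizer_iff]
    have h1 : c * finRotate 5 * c⁻¹ = finRotate 5 ^ 2 := by decide
    have h2 : c⁻¹ * finRotate 5 * c = finRotate 5 ^ 3 := by decide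
    intro a
    constructor
    · rintro ⟨i, rfl⟩
      refine mem_zpowers_iff.2 ⟨2 * i, ?_⟩
      show _ = c * finRotate 5 ^ i * c⁻¹
      rw [← conj_zpow, h1, zpow_mul]
      rfl
    · rintro ⟨i, hi⟩
      refine mem_zpowers_iff.2 ⟨3 * i, ?_⟩
      have h3 : finRotate 5 ^ i = c * a * c⁻¹ := hi
      have h4 : a = c⁻¹ * finRotate 5 ^ i * c := by rw [h3]; group
      have h5 : c⁻¹ * finRotate 5 ^ i * c = (c⁻¹ * finRotate 5 * c) ^ i := by
        have := (conj_zpow (i := i) (a := c⁻¹) (b := (finRotate 5 : Equiv.Perm (Fin 5)))).symm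
        rwa [inv_inv] at this
      rw [h4, h5, h2, zpow_mul]
      rfl
  · have h1 : orderOf c ∣ 4 := orderOf_dvd_of_pow_eq_one hc4
    have h2 : ¬ orderOf c ∣ 2 := fun h => hc2 (orderOf_dvd_iff_pow_eq_one.1 h)
    obtain ⟨m, hm, hmo⟩ := (Nat.dvd_prime_pow Nat.prime_two).1 (show orderOf c ∣ 2 ^ 2 from h1)
    interval_cases m
    · exact absurd (by rw [hmo]; norm_num) h2
    · exact absurd (by rw [hmo]; norm_num) h2
    · exact hmo
  · intro j h0 hj a ha h1
    obtain ⟨i, hi, rfl⟩ := hmem a ha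
    have key : ∀ j < 4, 0 < j → ∀ i < 5, (finRotate 5 : Equiv.Perm (Fin 5)) ^ i * c ^ j = c ^ j * finRotate 5 ^ i →
        (finRotate 5 : Equiv.Perm (Fin 5)) ^ i = 1 := by decide
    exact key j hj h0 i hi h1

/-- **A Frobenius group of order 20 in the centralizer.** -/
theorem frob_cent {x : Spor.BabyMonster} (hx : orderOf x = 11) :
    HasFrob ↥(centralizer ({x} : Set Spor.BabyMonster)) 5 4 := by
  have hfin := finMG
  obtain ⟨τ, q, b, F, hC, rfl, hb, hF, hk, hy⟩ := exists_data hx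
  have hbo : orderOf (b : MG) = 11 := by rw [Subgroup.orderOf_coe, hb]
  have hτm : τ ∈ centralizer ({(b : MG)} : Set MG) :=
    mem_centralizer_singleton_iff.2 (mem_centralizer_singleton_iff.1 b.2).symm
  have hττ : τ * τ = 1 := by rw [← pow_two, ← hC.ord, pow_orderOf_eq_one]
  set D : Subgroup ↥(centralizer ({(b : MG)} : Set MG)) := w.range.comap F with hD
  -- `D` commutes with `τ`
  have hDτ : ∀ g ∈ D, (g : MG) * τ = τ * g := by
    intro g hg
    obtain ⟨σ, hσ⟩ := hg
    set T : ↥(centralizer ({(b : MG)} : Set MG)) := ⟨τ, hτm⟩ with hT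
    have h1 : F (T⁻¹ * (g * T * g⁻¹)) = 1 := by
      rw [map_mul, map_mul, map_mul, map_inv, map_inv, hT, hy hτm, ← hσ, ← y_comm σ]
      group
    obtain ⟨i, hi⟩ := mem_zpowers_iff.1 ((hk _).1 h1)
    have h2 : (b : MG) ^ i = τ⁻¹ * (g * τ * (g : MG)⁻¹) := hi
    have h3 : (g : MG) * τ * (g : MG)⁻¹ = τ * (b : MG) ^ i := by rw [h2]; group
    have hτb : Commute τ ((b : MG) ^ i) := (show Commute τ (b : MG) from
      (mem_centralizer_singleton_iff.1 b.2).symm).zpow_right i
    have h7 : ((b : MG) ^ i) ^ 2 = 1 := by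
      have h8 : ((g : MG) * τ * (g : MG)⁻¹) ^ 2 = 1 := by
        rw [conj_pow, pow_two τ, hττ, mul_one, mul_inv_cancel]
      rw [h3, hτb.mul_pow, pow_two τ, hττ, one_mul] at h8
      exact h8
    have h8 : ((b : MG) ^ i) ^ 11 = 1 := by
      rw [← zpow_natCast, ← zpow_mul, mul_comm, zpow_mul, zpow_natCast, ← hbo, pow_orderOf_eq_one, one_zpow]
    have h9 : (b : MG) ^ i = 1 := by
      have h10 := Nat.dvd_gcd (orderOf_dvd_of_pow_eq_one h7) (orderOf_dvd_of_pow_eq_one h8)
      exact orderOf_eq_one_iff.1 (Nat.dvd_one.1 (h10.trans (by norm_num)))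
    rw [h9, mul_one] at h3
    exact mul_inv_eq_iff_eq_mul.1 h3
  -- the Frobenius group in `D`
  have h1 : HasFrob w.range 5 4 := hasFrob_five.congr (MonoidHom.ofInjective w_injective)
  let f : D →* w.range := F.subgroupComap w.range
  have hf : Function.Surjective f := by
    rintro ⟨y, hy⟩
    obtain ⟨g, rfl⟩ := hF y
    exact ⟨⟨g, hy⟩, rfl⟩
  have hfk : Nat.card f.ker ∣ 11 := by
    have h2 : Nat.card (zpowers (b : MG)) = 11 := by rw [Nat.card_zpowers, hbo]
    rw [← h2]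
    have h3 : ∀ g : f.ker, (((g : D) : ↥(centralizer ({(b : MG)} : Set MG))) : MG) ∈ zpowers (b : MG) := by
      rintro ⟨g, hg⟩
      refine (hk _).1 ?_
      exact congrArg Subtype.val hg
    refine card_dvd_of_injective
      (((centralizer ({(b : MG)} : Set MG)).subtype.comp (D.subtype.comp f.ker.subtype)).codRestrict
        (zpowers (b : MG)) h3) ?_
    intro a c hac
    have h4 : (((a : D) : ↥(centralizer ({(b : MG)} : Set MG))) : MG) = ((c : D) : ↥(centralizer ({(b : MG)} : Set MG))) :=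
      congrArg (fun z : ↥(zpowers (b : MG)) => (z : MG)) hac
    exact Subtype.ext (Subtype.ext (Subtype.ext h4))
  have h2 : HasFrob D 5 4 := by
    refine h1.lift hf (by norm_num) ?_ ?_
    · intro h
      have := h.trans hfk
      norm_num at this
    · exact Nat.Coprime.coprime_dvd_left hfk (by norm_num)
  -- `D` embeds in `C(x)`
  have hqx : ∀ g : D, q ⟨((g : ↥(centralizer ({(b : MG)} : Set MG))) : MG),
      mem_centralizer_singleton_iff.2 (hDτ g g.2)⟩ * q b = q b * q ⟨((g : ↥(centralizer ({(b : MG)} : Set MG))) : MG),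
      mem_centralizer_singleton_iff.2 (hDτ g g.2)⟩ := by
    intro g
    rw [← map_mul, ← map_mul]
    congr 1
    exact Subtype.ext (mem_centralizer_singleton_iff.1 (g : ↥(centralizer ({(b : MG)} : Set MG))).2)
  let ψ : D →* ↥(centralizer ({τ} : Set MG)) :=
    ((centralizer ({(b : MG)} : Set MG)).subtype.comp D.subtype).codRestrict _ (fun g =>
      mem_centralizer_singleton_iff.2 (hDτ g g.2))
  let φ : D →* ↥(centralizer ({q b} : Set Spor.BabyMonster)) :=
    (q.comp ψ).codRestrict _ (fun g => mem_centralizer_singleton_iff.2 (hqx g))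
  refine h2.of_injective φ ?_
  rw [injective_iff_map_eq_one]
  intro g hg
  have h3 : q (ψ g) = 1 := congrArg Subtype.val hg
  rcases (hC.ext.ker _).1 h3 with h4 | h4
  · have h5 : ((g : ↥(centralizer ({(b : MG)} : Set MG))) : MG) = 1 :=
      congrArg (fun z : ↥(centralizer ({τ} : Set MG)) => (z : MG)) h4
    exact Subtype.ext (Subtype.ext h5)
  · exfalso
    have h5 : ((g : ↥(centralizer ({(b : MG)} : Set MG))) : MG) = τ :=
      congrArg (fun z : ↥(centralizer ({τ} : Set MG)) => (z : MG)) h4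
    obtain ⟨σ, hσ⟩ := g.2
    have h6 : (g : ↥(centralizer ({(b : MG)} : Set MG))) = ⟨τ, hτm⟩ := Subtype.ext h5
    rw [h6, hy hτm] at hσ
    exact y_ne_w σ hσ.symm

end Cfsg.Agent.H455.RecB
end

-- part: H860/I4/BEleven
section
prune_inst 0x10004100440000000018000002000000200000000060000000000400090801002005010000401400800026d060008000001001000008000020008800000000000401002200341800010000000004080c00000000000000000000000000000000000000000
set_option linter.all false
open scoped Cfsg.Agent.FastGrp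

/-!
# The centralizer of an element of order 11 of the Baby Monster (helper860)

* `exists_hom` : `C(x) → S₅` onto with kernel `⟨x⟩`.
-/

set_option autoImplicit false
set_option maxRecDepth 100000

namespace Cfsg.Agent.H860.I4

open Cfsg Subgroup Cfsg.Agent.H58.Rec
open Cfsg.Agent.MonsterX Cfsg.Agent.MonsterX.MainBasic Cfsg.Agent.MonsterU
open Cfsg.Agent.BpSpor.MBigModel (MG zz chart card_M card_cent_z card_cent_t orderOf_zz zz_sq)
open Cfsg.Agent.CoThreeStd.MTwelve (inv_class card_cent_v card_cent_y cent_y w w_injective y_ne_w y_comm y_sq)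
open Cfsg.Agent.H393.Iso (exists_lift lift_comm)
open Cfsg.Agent.H455.RecB

/-- **The centralizer of an element of order 11.** -/
theorem exists_hom {x : Spor.BabyMonster} (hx : orderOf x = 11) :
    ∃ φ : ↥(centralizer ({x} : Set Spor.BabyMonster)) →* Equiv.Perm (Fin 5), Function.Surjective φ ∧
      ∀ g, φ g = 1 ↔ (g : Spor.BabyMonster) ∈ zpowers x := by
  have hfin := finMG
  obtain ⟨τ, q, b, F, hC, rfl, hb, hF, hk, hy⟩ := exists_data hx
  have hbo : orderOf (b : MG) = 11 := by rw [Subgroup.orderOf_coe, hb]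
  have hτm : τ ∈ centralizer ({(b : MG)} : Set MG) :=
    mem_centralizer_singleton_iff.2 (mem_centralizer_singleton_iff.1 b.2).symm
  have hττ : τ * τ = 1 := by rw [← pow_two, ← hC.ord, pow_orderOf_eq_one]
  set! D : Subgroup ↥(centralizer ({(b : MG)} : Set MG)) := w.range.comap F with hD
  -- `D` commutes with `τ`
  have hDτ : ∀ g ∈ D, (g : MG) * τ = τ * g := by
    intro g hg
    obtain ⟨σ, hσ⟩ := hg
    set! T : ↥(centralizer ({(b : MG)} : Set MG)) := ⟨τ, hτm⟩ with hT
    have h1 : F (T⁻¹ * (g * T * g⁻¹)) = 1 := by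
      rw [map_mul, map_mul, map_mul, map_inv, map_inv, hT, hy hτm, ← hσ, ← y_comm σ]
      group
    obtain ⟨i, hi⟩ := mem_zpowers_iff.1 ((hk _).1 h1)
    have h2 : (b : MG) ^ i = τ⁻¹ * (g * τ * (g : MG)⁻¹) := hi
    have h3 : (g : MG) * τ * (g : MG)⁻¹ = τ * (b : MG) ^ i := by rw [h2]; group
    have hτb : Commute τ ((b : MG) ^ i) := (show Commute τ (b : MG) from
      (mem_centralizer_singleton_iff.1 b.2).symm).zpow_right i
    have h7 : ((b : MG) ^ i) ^ 2 = 1 := by
      have h8 : ((g : MG) * τ * (g : MG)⁻¹) ^ 2 = 1 := by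
        rw [conj_pow, pow_two τ, hττ, mul_one, mul_inv_cancel]
      rw [h3, hτb.mul_pow, pow_two τ, hττ, one_mul] at h8
      exact h8
    have h8 : ((b : MG) ^ i) ^ 11 = 1 := by
      rw [← zpow_natCast, ← zpow_mul, mul_comm, zpow_mul, zpow_natCast, ← hbo, pow_orderOf_eq_one, one_zpow]
    have h9 : (b : MG) ^ i = 1 := by
      have h10 := Nat.dvd_gcd (orderOf_dvd_of_pow_eq_one h7) (orderOf_dvd_of_pow_eq_one h8)
      exact orderOf_eq_one_iff.1 (Nat.dvd_one.1 (h10.trans (by norm_num)))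
    rw [h9, mul_one] at h3
    exact mul_inv_eq_iff_eq_mul.1 h3
  let f : D →* w.range := F.subgroupComap w.range
  have hf : Function.Surjective f := by
    rintro ⟨y, hy⟩
    obtain ⟨g, rfl⟩ := hF y
    exact ⟨⟨g, hy⟩, rfl⟩
  -- `D` is isomorphic to `C(x)`
  have hqx : ∀ g : D, q ⟨((g : ↥(centralizer ({(b : MG)} : Set MG))) : MG),
      mem_centralizer_singleton_iff.2 (hDτ g g.2)⟩ * q b = q b * q ⟨((g : ↥(centralizer ({(b : MG)} : Set MG))) : MG),
      mem_centralizer_singleton_iff.2 (hDτ g g.2)⟩ := by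
    intro g
    rw [← map_mul, ← map_mul]
    congr 1
    exact Subtype.ext (mem_centralizer_singleton_iff.1 (g : ↥(centralizer ({(b : MG)} : Set MG))).2)
  let ψ : D →* ↥(centralizer ({τ} : Set MG)) :=
    ((centralizer ({(b : MG)} : Set MG)).subtype.comp D.subtype).codRestrict _ (fun g =>
      mem_centralizer_singleton_iff.2 (hDτ g g.2))
  let φ : D →* ↥(centralizer ({q b} : Set Spor.BabyMonster)) :=
    (q.comp ψ).codRestrict _ (fun g => mem_centralizer_singleton_iff.2 (hqx g))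
  have hφi : Function.Injective φ := by
    rw [injective_iff_map_eq_one]
    intro g hg
    have h3 : q (ψ g) = 1 := congrArg Subtype.val hg
    rcases (hC.ext.ker _).1 h3 with h4 | h4
    · have h5 : ((g : ↥(centralizer ({(b : MG)} : Set MG))) : MG) = 1 :=
        congrArg (fun z : ↥(centralizer ({τ} : Set MG)) => (z : MG)) h4
      exact Subtype.ext (Subtype.ext h5)
    · exfalso
      have h5 : ((g : ↥(centralizer ({(b : MG)} : Set MG))) : MG) = τ :=
        congrArg (fun z : ↥(centralizer ({τ} : Set MG)) => (z : MG)) h4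
      obtain ⟨σ, hσ⟩ := g.2
      have h6 : (g : ↥(centralizer ({(b : MG)} : Set MG))) = ⟨τ, hτm⟩ := Subtype.ext h5
      rw [h6, hy hτm] at hσ
      exact y_ne_w σ hσ.symm
  have hφs : Function.Surjective φ := by
    rintro ⟨v, hv⟩
    have hv' : q b * v = v * q b := (mem_centralizer_singleton_iff.1 hv).symm
    obtain ⟨a, rfl⟩ := hC.ext.surj v
    have hba : b * a = a * b := lift_comm hC.ext prime11 (by norm_num) hb hv'
    have ham : (a : MG) ∈ centralizer ({(b : MG)} : Set MG) :=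
      mem_centralizer_singleton_iff.2 (congrArg Subtype.val hba).symm
    have haτ : (a : MG) * τ = τ * a := mem_centralizer_singleton_iff.1 a.2
    set! A : ↥(centralizer ({(b : MG)} : Set MG)) := ⟨a, ham⟩ with hA
    set! T : ↥(centralizer ({(b : MG)} : Set MG)) := ⟨τ, hτm⟩ with hT
    have hAT : A * T = T * A := Subtype.ext haτ
    have h1 : F A * CoThreeStd.MTwelve.y = CoThreeStd.MTwelve.y * F A := by
      rw [← hy hτm, ← map_mul, ← map_mul, hAT]
    obtain ⟨σ, hσ⟩ := cent_y _ h1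
    rcases hσ with h | h
    · have hAD : A ∈ D := ⟨σ, h.symm⟩
      refine ⟨⟨A, hAD⟩, Subtype.ext ?_⟩
      show q (ψ ⟨A, hAD⟩) = q a
      congr 1
    · have hAD : A * T ∈ D := by
        refine ⟨σ, ?_⟩
        rw [map_mul, hT, hy hτm, h]
        have hyw : CoThreeStd.MTwelve.y * w σ = w σ * CoThreeStd.MTwelve.y := y_comm σ
        rw [hyw, mul_assoc, y_sq, mul_one]
      refine ⟨⟨A * T, hAD⟩, Subtype.ext ?_⟩
      show q (ψ ⟨A * T, hAD⟩) = q a
      have h2 : ψ ⟨A * T, hAD⟩ = a * ⟨τ, mem_centralizer_singleton_iff.2 rfl⟩ := Subtype.ext rfl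
      rw [h2, map_mul, hC.ext.mapz, mul_one]
  let e : D ≃* ↥(centralizer ({q b} : Set Spor.BabyMonster)) := MulEquiv.ofBijective φ ⟨hφi, hφs⟩
  let o : Equiv.Perm (Fin 5) ≃* w.range := MonoidHom.ofInjective w_injective
  refine ⟨(o.symm.toMonoidHom.comp f).comp e.symm.toMonoidHom,
    (o.symm.surjective.comp hf).comp e.symm.surjective, fun g => ?_⟩
  obtain ⟨d, rfl⟩ := e.surjective g
  have h1 : ((o.symm.toMonoidHom.comp f).comp e.symm.toMonoidHom) (e d) = o.symm (f d) := by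
    show o.symm (f (e.symm (e d))) = _
    rw [e.symm_apply_apply]
  rw [h1, MulEquiv.map_eq_one_iff]
  have h2 : f d = 1 ↔ F d = 1 := by
    rw [← Subtype.val_inj]
    rfl
  rw [h2, hk]
  have h3 : ((e d : ↥(centralizer ({q b} : Set Spor.BabyMonster))) : Spor.BabyMonster) = q (ψ d) := rfl
  rw [h3]
  constructor
  · intro h
    obtain ⟨i, hi⟩ := mem_zpowers_iff.1 h
    refine mem_zpowers_iff.2 ⟨i, ?_⟩
    rw [← map_zpow]
    congr 1
    exact Subtype.ext hi
  · intro h
    obtain ⟨i, hi⟩ := mem_zpowers_iff.1 h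
    rw [← map_zpow] at hi
    refine mem_zpowers_iff.2 ⟨i, ?_⟩
    -- `b ^ i ∈ D`
    have hm : (b : MG) ^ i ∈ centralizer ({(b : MG)} : Set MG) := by
      rw [mem_centralizer_singleton_iff]
      exact ((Commute.refl (b : MG)).zpow_left i)
    have hbD : (⟨(b : MG) ^ i, hm⟩ : ↥(centralizer ({(b : MG)} : Set MG))) ∈ D := by
      refine ⟨1, ?_⟩
      rw [map_one]
      exact ((hk _).2 (mem_zpowers_iff.2 ⟨i, rfl⟩)).symm
    have h4 : φ ⟨⟨(b : MG) ^ i, hm⟩, hbD⟩ = φ d := by
      apply Subtype.ext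
      show q (ψ ⟨⟨(b : MG) ^ i, hm⟩, hbD⟩) = q (ψ d)
      rw [← hi]
      congr 1
    have h5 := hφi h4
    have h6 := congrArg (fun z : D => ((z : ↥(centralizer ({(b : MG)} : Set MG))) : MG)) h5
    exact h6

end Cfsg.Agent.H860.I4
end
end
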